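import Mathlib

set_option autoImplicit false

namespace Cfsg.Agent.Helper16.B66aux

/-- the reverse triangle inequality in the form used below -/
theorem norm_sub_ge_sub (X : ℝ) (w : ℂ) : X - ‖w‖ ≤ ‖((X : ℝ) : ℂ) - w‖ := by
  have h := norm_sub_norm_le ((X : ℝ) : ℂ) w
  rw [Complex.norm_real] at h
  have h2 : X ≤ ‖X‖ := le_abs_self X
  linarith

/-- (P21a) the lower bound for the principal block -/
theorem principal_lower (p x : ℕ) (hp : 7 ≤ p) (δ : ℤ) (hδ : δ = 1 ∨ δ = -1) (hx1 : 1 ≤ x)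
    (hxmod : (x : ℤ) ≡ δ [ZMOD p]) (c : ℂ)
    (hc1 : (p : ℝ) * ‖c‖ ≤ (x : ℝ) + ((p : ℝ) - 1) * (δ : ℝ))
    (hc2 : (p : ℝ) * ‖c + (δ : ℂ)‖ ≤ (x : ℝ) - (δ : ℝ)) :
    (((p : ℝ) - 1) / (p : ℝ)) ^ 2 <
      ‖1 + (δ : ℂ) * (c * c / (x : ℂ)) -
        (δ : ℂ) * ((c + (δ : ℂ)) * (c + (δ : ℂ)) / ((x : ℂ) + (δ : ℂ)))‖ := by
  have hpr : (7 : ℝ) ≤ (p : ℝ) := by exact_mod_cast hp
  have hp0 : (0 : ℝ) < (p : ℝ) := by linarith
  have hxr : (1 : ℝ) ≤ (x : ℝ) := by exact_mod_cast hx1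
  have hdvd : (p : ℤ) ∣ δ - (x : ℤ) := Int.modEq_iff_dvd.mp hxmod
  obtain ⟨m, hm⟩ := hdvd
  have hmr : (δ : ℝ) - (x : ℝ) = (p : ℝ) * (m : ℝ) := by exact_mod_cast hm
  rcases hδ with h | h
  · -- `δ = 1`
    subst h
    simp only [Int.cast_one, one_mul, mul_one] at hc1 hc2 hmr ⊢
    set k : ℝ := -(m : ℝ) with hk
    have hxk : (x : ℝ) = k * (p : ℝ) + 1 := by rw [hk]; linarith
    have hk0 : 0 ≤ k := by
      have : 0 ≤ k * (p : ℝ) := by linarith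
      by_contra hneg
      push Not at hneg
      nlinarith
    have hx0 : (0 : ℝ) < (x : ℝ) := by linarith
    have hxc : (x : ℂ) ≠ 0 := by exact_mod_cast hx0.ne'
    have hx1c : (x : ℂ) + 1 ≠ 0 := by
      have : ((x : ℝ) + 1 : ℝ) ≠ 0 := by linarith
      exact_mod_cast this
    have hid : 1 + c * c / (x : ℂ) - (c + 1) * (c + 1) / ((x : ℂ) + 1) =
        ((((x : ℝ) + 1 : ℝ) : ℂ) - (c + 1)) ^ 2 / ((((x : ℝ) * ((x : ℝ) + 1) : ℝ)) : ℂ) := by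
      push_cast
      field_simp
      ring
    rw [hid, norm_div, norm_pow, Complex.norm_real,
      Real.norm_of_nonneg (by positivity : (0 : ℝ) ≤ (x : ℝ) * ((x : ℝ) + 1))]
    have hcn : ‖c + 1‖ ≤ k := by
      have : (p : ℝ) * ‖c + 1‖ ≤ (p : ℝ) * k := by rw [hxk] at hc2; linarith
      exact le_of_mul_le_mul_left this hp0
    have hlow : k * ((p : ℝ) - 1) + 2 ≤ ‖((((x : ℝ) + 1 : ℝ)) : ℂ) - (c + 1)‖ := by
      have := norm_sub_ge_sub ((x : ℝ) + 1) (c + 1)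
      rw [hxk] at this ⊢
      linarith
    have hpos : 0 < k * ((p : ℝ) - 1) + 2 := by
      have : 0 ≤ k * ((p : ℝ) - 1) := mul_nonneg hk0 (by linarith)
      linarith
    have hsq : (k * ((p : ℝ) - 1) + 2) ^ 2 ≤
        ‖((((x : ℝ) + 1 : ℝ)) : ℂ) - (c + 1)‖ ^ 2 := pow_le_pow_left₀ hpos.le hlow 2
    rw [lt_div_iff₀ (by positivity)]
    have key : (((p : ℝ) - 1) / (p : ℝ)) ^ 2 * ((x : ℝ) * ((x : ℝ) + 1)) <
        (k * ((p : ℝ) - 1) + 2) ^ 2 := by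
      rw [div_pow, div_mul_eq_mul_div, div_lt_iff₀ (by positivity), hxk]
      have hident : (k * ((p : ℝ) - 1) + 2) ^ 2 * (p : ℝ) ^ 2 -
          ((p : ℝ) - 1) ^ 2 * ((k * (p : ℝ) + 1) * (k * (p : ℝ) + 1 + 1)) =
          k * (p : ℝ) * ((p : ℝ) - 1) * ((p : ℝ) + 3) + 2 * (p : ℝ) ^ 2 + 4 * (p : ℝ) - 2 := by
        ring
      have hpos2 : 0 < k * (p : ℝ) * ((p : ℝ) - 1) * ((p : ℝ) + 3) + 2 * (p : ℝ) ^ 2 +
          4 * (p : ℝ) - 2 := by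
        have h1 : 0 ≤ k * (p : ℝ) * ((p : ℝ) - 1) * ((p : ℝ) + 3) := by
          apply mul_nonneg (mul_nonneg (mul_nonneg hk0 hp0.le) (by linarith)) (by linarith)
        nlinarith
      linarith
    linarith
  · -- `δ = -1`
    subst h
    simp only [Int.cast_neg, Int.cast_one] at hc1 hc2 hmr ⊢
    set k : ℝ := -(m : ℝ) with hk
    have hxk : (x : ℝ) = k * (p : ℝ) - 1 := by rw [hk]; linarith
    have hm1 : m ≤ -1 := by
      by_contra hcon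
      push Not at hcon
      have h0 : (0 : ℤ) ≤ m := by omega
      have h0r : (0 : ℝ) ≤ (m : ℝ) := by exact_mod_cast h0
      have : 0 ≤ (p : ℝ) * (m : ℝ) := mul_nonneg hp0.le h0r
      linarith
    have hk1 : 1 ≤ k := by
      have : (m : ℝ) ≤ -1 := by exact_mod_cast hm1
      rw [hk]; linarith
    have hkp : 7 ≤ k * (p : ℝ) := by nlinarith
    have hx0 : (0 : ℝ) < (x : ℝ) := by linarith
    have hx10 : (0 : ℝ) < (x : ℝ) - 1 := by rw [hxk]; linarith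
    have hxc : (x : ℂ) ≠ 0 := by exact_mod_cast hx0.ne'
    have hx1c : (x : ℂ) + -1 ≠ 0 := by
      have : ((x : ℝ) + -1 : ℝ) ≠ 0 := by linarith
      exact_mod_cast this
    have hid : 1 + -1 * (c * c / (x : ℂ)) - -1 * ((c + -1) * (c + -1) / ((x : ℂ) + -1)) =
        (((x : ℝ) : ℂ) - c) ^ 2 / ((((x : ℝ) * ((x : ℝ) - 1) : ℝ)) : ℂ) := by
      push_cast
      have hx1c' : (x : ℂ) - 1 ≠ 0 := by
        have : (x : ℂ) + -1 = (x : ℂ) - 1 := by ring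
        rw [← this]; exact hx1c
      have e : (x : ℂ) + -1 = (x : ℂ) - 1 := by ring
      rw [e]
      field_simp
      ring
    rw [hid, norm_div, norm_pow, Complex.norm_real,
      Real.norm_of_nonneg (by positivity : (0 : ℝ) ≤ (x : ℝ) * ((x : ℝ) - 1))]
    have hcn : ‖c‖ ≤ k - 1 := by
      have : (p : ℝ) * ‖c‖ ≤ (p : ℝ) * (k - 1) := by rw [hxk] at hc1; linarith
      exact le_of_mul_le_mul_left this hp0
    have hlow : k * ((p : ℝ) - 1) ≤ ‖((x : ℝ) : ℂ) - c‖ := by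
      have := norm_sub_ge_sub (x : ℝ) c
      rw [hxk] at this ⊢
      linarith
    have hpos : 0 < k * ((p : ℝ) - 1) := by
      apply mul_pos (by linarith) (by linarith)
    have hsq : (k * ((p : ℝ) - 1)) ^ 2 ≤ ‖((x : ℝ) : ℂ) - c‖ ^ 2 :=
      pow_le_pow_left₀ hpos.le hlow 2
    rw [lt_div_iff₀ (by positivity)]
    have key : (((p : ℝ) - 1) / (p : ℝ)) ^ 2 * ((x : ℝ) * ((x : ℝ) - 1)) <
        (k * ((p : ℝ) - 1)) ^ 2 := by
      rw [div_pow, div_mul_eq_mul_div, div_lt_iff₀ (by positivity), hxk]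
      have hident : (k * ((p : ℝ) - 1)) ^ 2 * (p : ℝ) ^ 2 -
          ((p : ℝ) - 1) ^ 2 * ((k * (p : ℝ) - 1) * (k * (p : ℝ) - 1 - 1)) =
          ((p : ℝ) - 1) ^ 2 * (3 * (k * (p : ℝ)) - 2) := by
        ring
      have hpos2 : 0 < ((p : ℝ) - 1) ^ 2 * (3 * (k * (p : ℝ)) - 2) := by
        apply mul_pos
        · have : (0 : ℝ) < (p : ℝ) - 1 := by linarith
          positivity
        · linarith
      linarith
    linarith

/-- (P21b) the upper bound for the block of `θ` -/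
theorem theta_upper (p k' : ℕ) (hp : 7 ≤ p) (hk : 1 ≤ k') (A Z : ℂ)
    (hA : ‖A‖ ≤ (k' : ℝ) + 1) (hZ : ‖Z‖ ≤ 1) :
    ‖A * A / ((1 + k' * p : ℕ) : ℂ) -
        (A + Z) * (A + Z) / ((1 + k' * p + (p - 2) : ℕ) : ℂ) + Z * Z / ((p - 2 : ℕ) : ℂ)‖ ≤
      (((p : ℝ) - 1) / (p : ℝ)) ^ 2 := by
  have hp2 : 2 ≤ p := by omega
  set a : ℝ := 1 + (k' : ℝ) * (p : ℝ) with ha
  set d : ℝ := (p : ℝ) - 2 with hd
  have hpr : (7 : ℝ) ≤ (p : ℝ) := by exact_mod_cast hp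
  have hkr : (1 : ℝ) ≤ (k' : ℝ) := by exact_mod_cast hk
  have ha0 : 0 < a := by positivity
  have hd0 : 0 < d := by rw [hd]; linarith
  have hb0 : 0 < a + d := by linarith
  have e1 : ((1 + k' * p : ℕ) : ℂ) = ((a : ℝ) : ℂ) := by rw [ha]; push_cast; ring
  have e2 : ((p - 2 : ℕ) : ℂ) = ((d : ℝ) : ℂ) := by
    rw [hd]; push_cast [Nat.cast_sub hp2]; ring
  have e3 : ((1 + k' * p + (p - 2) : ℕ) : ℂ) = (((a + d : ℝ)) : ℂ) := by
    rw [Nat.cast_add, e1, e2]; push_cast; ring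
  rw [e1, e2, e3]
  have hac : ((a : ℝ) : ℂ) ≠ 0 := by exact_mod_cast ha0.ne'
  have hdc : ((d : ℝ) : ℂ) ≠ 0 := by exact_mod_cast hd0.ne'
  have hbc : (((a + d : ℝ)) : ℂ) ≠ 0 := by exact_mod_cast hb0.ne'
  have hid : A * A / ((a : ℝ) : ℂ) - (A + Z) * (A + Z) / (((a + d : ℝ)) : ℂ) +
      Z * Z / ((d : ℝ) : ℂ) =
      (((d : ℝ) : ℂ) * A - ((a : ℝ) : ℂ) * Z) ^ 2 /
        (((a : ℝ) : ℂ) * (((a + d : ℝ)) : ℂ) * ((d : ℝ) : ℂ)) := by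
    field_simp
    push_cast
    ring
  rw [hid, norm_div, norm_pow, norm_mul, norm_mul, Complex.norm_real, Complex.norm_real,
    Complex.norm_real, Real.norm_of_nonneg ha0.le, Real.norm_of_nonneg hb0.le,
    Real.norm_of_nonneg hd0.le]
  have hnum : ‖((d : ℝ) : ℂ) * A - ((a : ℝ) : ℂ) * Z‖ ≤ (2 * (k' : ℝ) + 1) * ((p : ℝ) - 1) := by
    calc ‖((d : ℝ) : ℂ) * A - ((a : ℝ) : ℂ) * Z‖
        ≤ ‖((d : ℝ) : ℂ) * A‖ + ‖((a : ℝ) : ℂ) * Z‖ := norm_sub_le _ _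
      _ = d * ‖A‖ + a * ‖Z‖ := by
          rw [norm_mul, norm_mul, Complex.norm_real, Complex.norm_real,
            Real.norm_of_nonneg hd0.le, Real.norm_of_nonneg ha0.le]
      _ ≤ d * ((k' : ℝ) + 1) + a * 1 :=
          add_le_add (mul_le_mul_of_nonneg_left hA hd0.le) (mul_le_mul_of_nonneg_left hZ ha0.le)
      _ = (2 * (k' : ℝ) + 1) * ((p : ℝ) - 1) := by rw [ha, hd]; ring
  have hn0 : 0 ≤ ‖((d : ℝ) : ℂ) * A - ((a : ℝ) : ℂ) * Z‖ := norm_nonneg _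
  have hsq : ‖((d : ℝ) : ℂ) * A - ((a : ℝ) : ℂ) * Z‖ ^ 2 ≤
      ((2 * (k' : ℝ) + 1) * ((p : ℝ) - 1)) ^ 2 := by
    apply pow_le_pow_left₀ hn0 hnum
  have hden : 0 < a * (a + d) * d := by positivity
  rw [div_le_iff₀ hden]
  have hp0 : (0 : ℝ) < (p : ℝ) := by linarith
  have key : (2 * (k' : ℝ) + 1) ^ 2 * (p : ℝ) ^ 2 ≤ a * (a + d) * d := by
    have hab : a * (a + d) = (k' : ℝ) * ((k' : ℝ) + 1) * (p : ℝ) ^ 2 + (p : ℝ) - 1 := by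
      rw [ha, hd]; ring
    rw [hab, hd]
    have hK : (2 : ℝ) ≤ (k' : ℝ) * ((k' : ℝ) + 1) := by nlinarith
    have hp2' : (0 : ℝ) ≤ (p : ℝ) ^ 2 := by positivity
    nlinarith [mul_nonneg (mul_nonneg (by linarith : (0:ℝ) ≤ (k' : ℝ) * ((k' : ℝ) + 1)) hp2')
      (by linarith : (0:ℝ) ≤ (p : ℝ) - 7)]
  calc ‖((d : ℝ) : ℂ) * A - ((a : ℝ) : ℂ) * Z‖ ^ 2
      ≤ ((2 * (k' : ℝ) + 1) * ((p : ℝ) - 1)) ^ 2 := hsq
    _ = (((p : ℝ) - 1) / (p : ℝ)) ^ 2 * ((2 * (k' : ℝ) + 1) ^ 2 * (p : ℝ) ^ 2) := by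
        field_simp
    _ ≤ (((p : ℝ) - 1) / (p : ℝ)) ^ 2 * (a * (a + d) * d) := by
        apply mul_le_mul_of_nonneg_left key
        positivity

end Cfsg.Agent.Helper16.B66aux
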