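import Cfsg.Agent.Helper57.BP.PartI
import Cfsg.Agent.S4701
import Cfsg.Agent.Helper80.Linear

/-!
# S4705: piece (P04), the `p`-regular elements of `C_G(P)` are central
-/

set_option autoImplicit false

namespace Cfsg.Agent.Helper16.B66aux

open Cfsg Cfsg.Agent.Helper16 Cfsg.Agent.Helper16.DefOne Cfsg.Agent.Helper82.DefOne
  Cfsg.Agent.Helper77.DefOne Cfsg.Agent.Helper57.BH Cfsg.Agent.Helper57.BP
open scoped ComplexConjugate

universe u

variable {G : Type u} [Group G] [Fintype G] {p : ℕ} [Fact p.Prime] (P : Sylow p G)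

/-- a linear irreducible character has values of norm one -/
theorem norm_eq_one_of_linear {H : Type u} [Group H] [Finite H] (θ : IrrCharacter H)
    (hθ1 : charDegree (θ : H → ℂ) = 1) (c : H) : ‖(θ : H → ℂ) c‖ = 1 := by
  have hχ : IsCharacter H (θ : H → ℂ) := by
    obtain ⟨n, ρ, -, h⟩ := θ.2
    exact ⟨n, ρ, h⟩
  have h1 : (θ : H → ℂ) 1 = 1 := by
    rw [Helper79.irr_one θ, hθ1, Nat.cast_one]
  obtain ⟨μ, hμ⟩ := Helper80.IsCharacter.exists_monoidHom hχ h1
  rw [hμ c]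
  have hpow : ((μ c : ℂˣ) : ℂ) ^ orderOf c = 1 := by
    rw [← Units.val_pow_eq_pow_val, ← map_pow, pow_orderOf_eq_one, map_one, Units.val_one]
  exact Complex.norm_eq_one_of_pow_eq_one hpow (orderOf_pos c).ne'

open Classical in
/-- (P04) the `p`-regular elements of `C_G(P)` are central, and `ψ` is `ψ(1) θ` on them -/
theorem regular_of_mult (hP : Nat.card P = p) (hp5 : 5 < p)
    (θ : IrrCharacter (cen P)) (hθ : IsCanon P θ) (hθ1 : charDegree (θ : cen P → ℂ) = 1)
    (ψ : IrrCharacter G) (hdeg : charDegree (ψ : G → ℂ) = p - 2)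
    (hfaith : ∀ g : G, (ψ : G → ℂ) g = (ψ : G → ℂ) 1 → g = 1)
    (φ₀ : IrrCharacter (cen P))
    (hmult : ∀ φ : IrrCharacter (cen P), mult P ψ φ =
        if can P φ = θ ∧ φ ∉ MulAction.orbit (nor P) φ₀ then 1 else 0)
    (c : cen P) (hc : ¬ p ∣ orderOf c) :
    (c : G) ∈ Subgroup.center G ∧
      (ψ : G → ℂ) (c : G) = (ψ : G → ℂ) 1 * (θ : cen P → ℂ) c := by
  have : Finite (IrrCharacter (cen P)) := Helper79.irr_finite'
  have hχ : IsCharacter (cen P) (θ : cen P → ℂ) := by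
    obtain ⟨n, ρ, -, h⟩ := θ.2
    exact ⟨n, ρ, h⟩
  have hθone : (θ : cen P → ℂ) 1 = 1 := by
    rw [Helper79.irr_one θ, hθ1, Nat.cast_one]
  have key : ∀ x : cen P, ¬ p ∣ orderOf x → (ψ : G → ℂ) (x : G) =
      (∑ᶠ φ : IrrCharacter (cen P), (mult P ψ φ : ℂ)) * (θ : cen P → ℂ) x := by
    intro x hx
    rw [restrict_eq_finsum_mult P ψ x, finsum_mul]
    apply finsum_congr
    intro φ
    rw [hmult φ]
    split_ifs with h
    · rw [can_apply_regular P hP φ x hx, h.1]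
    · simp
  have hone : (ψ : G → ℂ) 1 = ∑ᶠ φ : IrrCharacter (cen P), (mult P ψ φ : ℂ) := by
    have h := key 1 (by
      rw [orderOf_one]
      exact (Nat.Prime.one_lt Fact.out).ne' ∘ Nat.dvd_one.mp)
    rw [hθone, mul_one] at h
    simpa using h
  have hval : (ψ : G → ℂ) (c : G) = (ψ : G → ℂ) 1 * (θ : cen P → ℂ) c := by
    rw [key c hc, ← hone]
  refine ⟨?_, hval⟩
  apply mem_center_of_mem_charCenter ψ hfaith
  rw [Helper74.mem_charCenter_iff, hval, norm_mul, norm_eq_one_of_linear θ hθ1 c, mul_one]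
  rw [Helper79.irr_one ψ]
  simp

end Cfsg.Agent.Helper16.B66aux
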