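import Cfsg.Agent.Helper16.B66.Pieces

/-!
# S4705: Part I (the block of `ζ`)
-/

set_option autoImplicit false

namespace Cfsg.Agent.Helper16.B66

open Cfsg Cfsg.Agent.Helper16 Cfsg.Agent.Helper16.DefOne Cfsg.Agent.Helper82.DefOne
  Cfsg.Agent.Helper77.DefOne Cfsg.Agent.Helper57.BH Cfsg.Agent.Helper57.BP
open scoped ComplexConjugate

universe u

variable {G : Type u} [Group G] [Fintype G] {p : ℕ} [Fact p.Prime] (P : Sylow p G)

/-- a Sylow subgroup of order `p` has a nontrivial element -/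
theorem exists_ne_one_of_card (hP : Nat.card P = p) :
    ∃ x : G, x ∈ (P : Subgroup G) ∧ x ≠ 1 := by
  have hp : p.Prime := Fact.out
  by_contra hcon
  push Not at hcon
  have : Nat.card P = 1 := by
    rw [Nat.card_eq_one_iff_unique]
    refine ⟨⟨fun a b => ?_⟩, ⟨1⟩⟩
    apply Subtype.ext
    rw [hcon a a.2, hcon b b.2]
  rw [hP] at this
  exact hp.one_lt.ne' this

open Classical in
/-- **Part I.** The block of `ζ`: `δ = -1`, `θ` is linear and invariant, `|N : C| = 2`, the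
`p`-regular elements of `C_G(P)` are central. -/
theorem part_one (hP : Nat.card P = p) [((P : Subgroup G).subgroupOf (nor P)).Normal]
    (hmod : ModCount p P) (hp5 : 5 < p) (hnn : ¬ (P : Subgroup G).Normal)
    (ζ : IrrCharacter G) (hfaith : ∀ g : G, (ζ : G → ℂ) g = (ζ : G → ℂ) 1 → g = 1)
    (hdeg : charDegree (ζ : G → ℂ) = p - 2) :
    ∃ (θ : IrrCharacter (cen P)) (X Y : Set (IrrCharacter G)) (ε : IrrCharacter G → ℤ),
      IsCanon P θ ∧ charDegree (θ : cen P → ℂ) = 1 ∧ (∀ n : nor P, n • θ = θ) ∧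
      (cen P).relIndex (nor P) = 2 ∧ IsRData P θ X Y ε (-1) ∧ ζ ∈ Y ∧
      (∀ c : cen P, ¬ p ∣ orderOf c → (c : G) ∈ Subgroup.center G) ∧
      (∀ c : cen P, ¬ p ∣ orderOf c →
        (ζ : G → ℂ) (c : G) = (ζ : G → ℂ) 1 * (θ : cen P → ℂ) c) := by
  have hp : p.Prime := Fact.out
  -- `P` is not in the centre of `ζ`
  have hnc : ∃ x : G, x ∈ (P : Subgroup G) ∧ x ∉ Helper74.charCenter ζ := by
    by_contra hcon
    push Not at hcon
    apply hnn
    constructor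
    intro y hy g
    have hc := mem_center_of_mem_charCenter ζ hfaith y (hcon y hy)
    have e : g * y * g⁻¹ = y := by
      rw [Subgroup.mem_center_iff.mp hc g]; group
    rw [e]
    exact hy
  have hker : ∃ x : G, x ∈ (P : Subgroup G) ∧ (ζ : G → ℂ) x ≠ (ζ : G → ℂ) 1 := by
    obtain ⟨x, hx, hx1⟩ := exists_ne_one_of_card P hP
    exact ⟨x, hx, fun h => hx1 (hfaith x h)⟩
  have hnd : ¬ p ∣ charDegree (ζ : G → ℂ) := by
    rw [hdeg]
    exact Nat.not_dvd_of_pos_of_lt (by omega) (by omega)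
  obtain ⟨θ, hθ, hζR⟩ := (not_dvd_degree_iff P hP hmod ζ).mp hnd
  obtain ⟨X, Y, ε, δ, D⟩ := exists_isRData P hP hmod θ hθ
  have hζY : ζ ∈ Y := by
    rw [D.union] at hζR
    rcases hζR with h | h
    · exact absurd h (not_mem_X_of_lt P hP θ hθ D ζ (by omega) hker)
    · exact h
  have hδ : δ = -1 := delta_eq_neg_one P hP hmod hp5 θ hθ D ζ hζY hdeg hnc
  subst hδ
  obtain ⟨φ₀, h1, h2, hrow0⟩ := D.rowY ζ hζY
  have hrow := rowZ_eq_of_mem_Y P hP hmod θ hθ D ζ hζY φ₀ h1 h2 hrow0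
  have hrow' : ∀ φ : IrrCharacter (cen P),
      rowZ P ζ φ = if φ ∈ MulAction.orbit (nor P) φ₀ then -1 else 0 := hrow
  obtain ⟨hθ1, hinv, hf, hmult⟩ :=
    setup_arith P hP hmod hp5 θ hθ D ζ hζY hdeg hker φ₀ h1 h2 hrow'
  have hreg := regular_of_mult P hP hp5 θ hθ hθ1 ζ hdeg hfaith φ₀ hmult
  exact ⟨θ, X, Y, ε, hθ, hθ1, hinv, hf, D, hζY, fun c hc => (hreg c hc).1,
    fun c hc => (hreg c hc).2⟩

end Cfsg.Agent.Helper16.B66
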