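import Cfsg.Agent.Helper16.B66.PartTwo
import Cfsg.Agent.Helper74.AFT

/-!
# S4705: Parts III-VI (the principal block, the order of `G`, the structure of `G`)
-/

set_option autoImplicit false

namespace Cfsg.Agent.Helper16.B66

open Cfsg Cfsg.Agent.Helper16 Cfsg.Agent.Helper16.DefOne Cfsg.Agent.Helper82.DefOne
  Cfsg.Agent.Helper77.DefOne Cfsg.Agent.Helper57.BH Cfsg.Agent.Helper57.BP
open scoped ComplexConjugate

universe u

variable {G : Type u} [Group G] [Fintype G] {p : ℕ} [Fact p.Prime] (P : Sylow p G)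

open Classical in
/-- **Parts III and IV.** `G = G' Z(G)`, `G' ∩ Z(G) = 1` and `|G| = p (p-1) (p-2) |Z(G)|`. -/
theorem part_three (hP : Nat.card P = p) [((P : Subgroup G).subgroupOf (nor P)).Normal]
    (hmod : ModCount p P) (hp5 : 5 < p)
    (ζ : IrrCharacter G) (hfaith : ∀ g : G, (ζ : G → ℂ) g = (ζ : G → ℂ) 1 → g = 1)
    (hdeg : charDegree (ζ : G → ℂ) = p - 2)
    (θ : IrrCharacter (cen P)) (hθ : IsCanon P θ) (hθ1 : charDegree (θ : cen P → ℂ) = 1)
    (hf : (cen P).relIndex (nor P) = 2)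
    (hcent : ∀ c : cen P, ¬ p ∣ orderOf c → (c : G) ∈ Subgroup.center G)
    (hZreg : ∀ z : G, z ∈ Subgroup.center G → ¬ p ∣ orderOf z)
    (hζθ : ∀ c : cen P, ¬ p ∣ orderOf c →
      (ζ : G → ℂ) (c : G) = (ζ : G → ℂ) 1 * (θ : cen P → ℂ) c)
    (μ : IrrCharacter G) (hμR : μ ∈ Rset P θ) (hμ1 : charDegree (μ : G → ℂ) = 1) :
    commutator G ⊔ Subgroup.center G = ⊤ ∧ commutator G ⊓ Subgroup.center G = ⊥ ∧
      Nat.card G = p * (p - 1) * (p - 2) * Nat.card (Subgroup.center G) := by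
  have hp : p.Prime := Fact.out
  have hp2 : 2 ≤ p := hp.two_le
  have hp7 : 7 ≤ p := by
    rcases Nat.lt_or_ge 6 p with h | h
    · exact h
    · exfalso
      have h6 : p = 6 := by omega
      rw [h6] at hp
      norm_num at hp
  have h1reg : ¬ p ∣ orderOf (1 : G) := by
    rw [orderOf_one]
    exact hp.not_dvd_one
  -- the centre of `G` lies in `C_G(P)`
  have hZC : ∀ z : G, z ∈ Subgroup.center G → z ∈ cen P := by
    intro z hz
    rw [Subgroup.mem_centralizer_iff]
    intro y _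
    exact (Subgroup.mem_center_iff.mp hz y)
  have hregC : ∀ (z : G) (hz : z ∈ Subgroup.center G),
      ¬ p ∣ orderOf (⟨z, hZC z hz⟩ : cen P) := by
    intro z hz
    rw [← Subgroup.orderOf_coe]
    exact hZreg z hz
  have hθone : (θ : cen P → ℂ) 1 = 1 := by
    rw [Helper79.irr_one θ, hθ1]
    simp
  have hζ1 : (ζ : G → ℂ) 1 = ((p - 2 : ℕ) : ℂ) := by rw [Helper79.irr_one ζ, hdeg]
  have hζ1ne : (ζ : G → ℂ) 1 ≠ 0 := by
    rw [hζ1]
    have : p - 2 ≠ 0 := by omega
    exact_mod_cast this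
  -- the linear character `μ`
  obtain ⟨m, hm⟩ := Helper74.exists_linIrr_of_degree_one μ hμ1
  have hμapp : ∀ g : G, (μ : G → ℂ) g = ((m g : ℂˣ) : ℂ) := by
    intro g
    rw [hm]
    rfl
  have hmZ : ∀ (z : G) (hz : z ∈ Subgroup.center G),
      ((m z : ℂˣ) : ℂ) = (θ : cen P → ℂ) ⟨z, hZC z hz⟩ := by
    intro z hz
    have h := Helper82.BP.central_of_mem_Rset P hP θ μ hμR ⟨z, hZC z hz⟩ hz (hregC z hz)
    rw [hθone, mul_one] at h
    change (μ : G → ℂ) z = _ at h
    rw [hμapp z, hμapp 1, map_one, Units.val_one, one_mul] at h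
    exact h
  -- the twisted character
  set ζ' : IrrCharacter G := Helper74.twist m⁻¹ ζ with hζ'
  have hζ'app : ∀ g : G, (ζ' : G → ℂ) g = (((m g : ℂˣ) : ℂ))⁻¹ * (ζ : G → ℂ) g := by
    intro g
    rw [hζ', Helper74.twist_apply, MonoidHom.inv_apply, Units.val_inv_eq_inv_val]
  have hζ'1 : (ζ' : G → ℂ) 1 = ((p - 2 : ℕ) : ℂ) := by
    rw [hζ'app 1, map_one, Units.val_one, inv_one, one_mul, hζ1]
  have hζ'deg : charDegree (ζ' : G → ℂ) = p - 2 := by
    rw [hζ', Helper74.charDegree_twist, hdeg]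
  have hζ'Z : ∀ z : G, z ∈ Subgroup.center G → (ζ' : G → ℂ) z = (ζ' : G → ℂ) 1 := by
    intro z hz
    have h1 := hζθ ⟨z, hZC z hz⟩ (hregC z hz)
    change (ζ : G → ℂ) z = _ at h1
    rw [hζ'app z, h1, ← hmZ z hz, hζ'app 1, map_one, Units.val_one, inv_one, one_mul]
    have hne : ((m z : ℂˣ) : ℂ) ≠ 0 := Units.ne_zero _
    field_simp
  have hζ'over : ζ' ∈ overOne G := hζ'Z
  have hone : ∀ g : G, ((oneIrrG G : IrrCharacter G) : G → ℂ) g = 1 := fun _ => rfl
  -- membership in the principal block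
  have hmemB0 : ∀ χ : IrrCharacter G, χ ∈ overOne G → ¬ p ∣ charDegree (χ : G → ℂ) →
      χ ∈ Rset P (oneIrr P) := by
    intro χ hχ hd
    refine mem_Rset_of_overChar P hP hmod hcent hZreg (oneIrr P) (isCanon_oneIrr P)
      (charDegree_oneIrr P) (oneIrrG G) (fun c _ => oneIrrG_apply_regular P c) χ ?_ hd
    rw [overChar_oneIrrG]
    exact hχ
  have hζ'R : ζ' ∈ Rset P (oneIrr P) := by
    apply hmemB0 ζ' hζ'over
    rw [hζ'deg]
    exact Nat.not_dvd_of_pos_of_lt (by omega) (by omega)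
  -- the principal block
  obtain ⟨X0, Y0, ε0, δ0, D0⟩ := exists_isRData P hP hmod (oneIrr P) (isCanon_oneIrr P)
  obtain ⟨χ1, hχ1ne, hX0, hε01, hε1, hxmod, hregY0⟩ := principal_shape P hP hmod hp5 hf D0
  have hχ1X : χ1 ∈ X0 := by rw [hX0]; exact Set.mem_insert_of_mem _ rfl
  set x := charDegree (χ1 : G → ℂ) with hx
  have hxpos : 0 < x := Helper79.irr_charDegree_pos χ1
  have hdvd_of : ∀ a : ℤ, (x : ℤ) = a → (p : ℤ) ∣ a - δ0 := by
    intro a ha
    have := hxmod
    rw [ha] at this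
    exact (Int.modEq_iff_dvd.mp this.symm)
  have hnd : ∀ a : ℤ, 0 < a → a < p → ¬ (p : ℤ) ∣ a := by
    intro a h0 h1 hd
    have := Int.le_of_dvd h0 hd
    omega
  -- `ζ'` is exceptional, `δ0 = -1`, `x = p - 1`
  have hζ'Y0 : ζ' ∈ Y0 := by
    rw [D0.union] at hζ'R
    rcases hζ'R with h | h
    · exfalso
      rw [hX0] at h
      rcases h with h | h
      · -- `ζ' = 1`
        have := congrArg (fun χ : IrrCharacter G => (χ : G → ℂ) 1) h
        simp only [hζ'1, hone] at this
        have h3 : p - 2 = 1 := by exact_mod_cast this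
        omega
      · -- `ζ' = χ1`
        rw [Set.mem_singleton_iff] at h
        have hxe : x = p - 2 := by rw [hx, ← h, hζ'deg]
        have hxz : (x : ℤ) = (p : ℤ) - 2 := by rw [hxe]; push_cast [Nat.cast_sub hp2]; ring
        have hd := hdvd_of _ hxz
        rcases D0.del with h' | h' <;> rw [h'] at hd
        · exact hnd _ (by omega) (by omega) hd
        · exact hnd _ (by omega) (by omega) hd
    · exact h
  have hdeg0 : ((p - 2 : ℕ) : ℂ) = (x : ℂ) + (δ0 : ℂ) := by
    rw [← hζ'1, hregY0 ζ' hζ'Y0 1 h1reg, Helper79.irr_one χ1]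
  have hdeg0z : ((p : ℤ) - 2) = (x : ℤ) + δ0 := by
    have h3 : (((p - 2 : ℕ) : ℤ) : ℂ) = (((x : ℤ) + δ0 : ℤ) : ℂ) := by
      push_cast
      exact hdeg0
    have h4 : ((p - 2 : ℕ) : ℤ) = (x : ℤ) + δ0 := by exact_mod_cast h3
    rw [← h4]
    push_cast [Nat.cast_sub hp2]
    ring
  have hδ0 : δ0 = -1 := by
    rcases D0.del with h' | h'
    · exfalso
      rw [h'] at hdeg0z
      have hxz : (x : ℤ) = (p : ℤ) - 3 := by omega
      have hd := hdvd_of _ hxz
      rw [h'] at hd
      exact hnd _ (by omega) (by omega) hd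
    · exact h'
  have hxe : x = p - 1 := by
    rw [hδ0] at hdeg0z
    omega
  have hχ11 : (χ1 : G → ℂ) 1 = ((p - 1 : ℕ) : ℂ) := by rw [Helper79.irr_one χ1, ← hx, hxe]
  have hregζ' : ∀ g : G, ¬ p ∣ orderOf g → (ζ' : G → ℂ) g = (χ1 : G → ℂ) g - 1 := by
    intro g hg
    rw [hregY0 ζ' hζ'Y0 g hg, hδ0]
    push_cast
    ring
  -- the linear characters trivial on the centre
  have hlin : ∀ lam : IrrCharacter G, charDegree (lam : G → ℂ) = 1 → lam ∈ overOne G →
      lam = oneIrrG G := by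
    intro lam hl1 hlo
    have hlR := hmemB0 lam hlo (by rw [hl1]; exact hp.one_lt.ne' ∘ Nat.dvd_one.mp)
    have hl11 : (lam : G → ℂ) 1 = 1 := by rw [Helper79.irr_one lam, hl1]; simp
    rw [D0.union] at hlR
    rcases hlR with h | h
    · rw [hX0] at h
      rcases h with h | h
      · exact h
      · exfalso
        rw [Set.mem_singleton_iff] at h
        rw [h, hχ11] at hl11
        have h3 : p - 1 = 1 := by exact_mod_cast hl11
        omega
    · exfalso
      have h3 := hregY0 lam h 1 h1reg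
      rw [hl11, hχ11, hδ0] at h3
      have h5 : (1 : ℤ) = ((p - 1 : ℕ) : ℤ) + (-1 : ℤ) := by exact_mod_cast h3
      omega
  have hsup := commutator_sup_center hlin
  -- `G' ∩ Z = 1`
  have hinf : commutator G ⊓ Subgroup.center G = ⊥ := by
    rw [eq_bot_iff]
    intro z hz
    rw [Subgroup.mem_inf] at hz
    rw [Subgroup.mem_bot]
    have hmz : m z = 1 := MonoidHom.mem_ker.mp (Abelianization.commutator_subset_ker m hz.1)
    have hθz := hmZ z hz.2
    rw [hmz, Units.val_one] at hθz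
    apply hfaith
    have h1 := hζθ ⟨z, hZC z hz.2⟩ (hregC z hz.2)
    change (ζ : G → ℂ) z = _ at h1
    rw [h1, ← hθz, mul_one]
  refine ⟨hsup, hinf, ?_⟩
  -- the values of `χ1`
  have hsing : ∀ g : G, p ∣ orderOf g → (χ1 : G → ℂ) g = -1 := by
    intro g hg
    rw [apply_singular_X0 P hP D0 χ1 hχ1X g hg, hε1, hδ0]
    simp
  obtain ⟨u, hu, hu1⟩ := exists_ne_one_of_card P hP
  have hp1c : ((p - 1 : ℕ) : ℂ) = (p : ℂ) - 1 := by
    push_cast [Nat.cast_sub hp.one_le]
    ring
  have hp2c : ((p - 2 : ℕ) : ℂ) = (p : ℂ) - 2 := by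
    push_cast [Nat.cast_sub hp2]
    ring
  have hpc0 : (p : ℂ) ≠ 0 := by exact_mod_cast hp.ne_zero
  have hpc1 : (p : ℂ) - 1 ≠ 0 := by
    rw [← hp1c]
    have : p - 1 ≠ 0 := by omega
    exact_mod_cast this
  have hpc2 : (p : ℂ) - 2 ≠ 0 := by
    rw [← hp2c]
    have : p - 2 ≠ 0 := by omega
    exact_mod_cast this
  have hint : ∀ g : G, ¬ p ∣ orderOf g → ∃ n : ℕ, (χ1 : G → ℂ) g = (n : ℂ) := by
    intro w hw
    obtain ⟨q, hq0, hq⟩ := exists_rat_tsum_overOne (G := G) u u w
    have e := tsum_overChar_eq_Rset P hP hmod hcent hZreg (oneIrr P) (isCanon_oneIrr P)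
      (charDegree_oneIrr P) (oneIrrG G) (fun c _ => oneIrrG_apply_regular P c) u u hu hu1 w
    rw [overChar_oneIrrG] at e
    have e2 := tsum_Rset_one_uuw P hP hmod (by omega) hf D0 u hu hu1 w hw ζ' hζ'Y0
    rw [hX0, finsum_mem_pair hχ1ne.symm, hone, hone, hregζ' w hw, hζ'1, hχ11, hp1c, hp2c] at e2
    rw [e, e2] at hq
    set c := (χ1 : G → ℂ) w with hc
    have h3 : conj c = ((q * ((p : ℚ) - 1) / (p : ℚ) : ℚ) : ℂ) := by
      have h4 : conj c * (p : ℂ) = (q : ℂ) * ((p : ℂ) - 1) := by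
        rw [← hq]
        simp only [map_one, map_sub]
        field_simp
        ring
      push_cast
      field_simp
      exact h4
    have h5 : c = ((q * ((p : ℚ) - 1) / (p : ℚ) : ℚ) : ℂ) := by
      have := congrArg conj h3
      rw [Complex.conj_conj] at this
      rw [this]
      exact map_ratCast (starRingEnd ℂ) _
    refine exists_nat_of_rat χ1 w _ ?_ h5
    have hpq : (0 : ℚ) < (p : ℚ) := by exact_mod_cast hp.pos
    have hpq1 : (0 : ℚ) ≤ (p : ℚ) - 1 := by
      have : (1 : ℚ) ≤ (p : ℚ) := by exact_mod_cast hp.one_le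
      linarith
    positivity
  -- the number of `p`-singular elements
  have hS : 2 * p * (Finset.univ.filter (fun g : G => p ∣ orderOf g)).card =
      (p - 1) * Nat.card G := by
    have h1 := sum_singular_eq P hP hcent hZreg (fun _ => (1 : ℝ)) (fun _ _ => rfl)
      (fun _ _ _ => rfl)
    have h2 := card_eq_of_cent P hP hcent hZreg
    rw [hf] at h2
    have hcP : (Finset.univ.filter (fun u : G => u ∈ (P : Subgroup G) ∧ u ≠ 1)).card = p - 1 := by
      have h3 : (Finset.univ.filter (fun u : G => u ∈ (P : Subgroup G))).card = p := by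
        have h3' : (Finset.univ.filter (fun u : G => u ∈ (P : Subgroup G))).card =
            Nat.card (P : Subgroup G) := by
          rw [Nat.card_eq_fintype_card, Fintype.card_subtype]
        rw [h3']
        exact hP
      have h4 : Finset.univ.filter (fun u : G => u ∈ (P : Subgroup G) ∧ u ≠ 1) =
          (Finset.univ.filter (fun u : G => u ∈ (P : Subgroup G))).erase 1 := by
        ext g
        simp only [Finset.mem_filter, Finset.mem_univ, true_and, Finset.mem_erase]
        tauto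
      rw [h4, Finset.card_erase_of_mem, h3]
      simp only [Finset.mem_filter, Finset.mem_univ, true_and]
      exact Subgroup.one_mem _
    simp only [Finset.sum_const, nsmul_eq_mul, mul_one] at h1
    rw [hcP] at h1
    have h5 : (Finset.univ.filter (fun g : G => p ∣ orderOf g)).card =
        Nat.card (Subgroup.center G) * Nat.card (Sylow p G) * (p - 1) := by
      exact_mod_cast h1
    rw [h5, h2]
    ring
  -- the kernel of `χ1`
  have hker : (Finset.univ.filter
      (fun g : G => (χ1 : G → ℂ) g = (χ1 : G → ℂ) 1)).card = Nat.card (Subgroup.center G) := by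
    have hcardZ : (Finset.univ.filter (fun g : G => g ∈ Subgroup.center G)).card =
        Nat.card (Subgroup.center G) := by
      rw [Nat.card_eq_fintype_card, Fintype.card_subtype]
    rw [← hcardZ]
    congr 1
    ext g
    simp only [Finset.mem_filter, Finset.mem_univ, true_and]
    constructor
    · intro hg
      have hgreg : ¬ p ∣ orderOf g := by
        intro hs
        rw [hsing g hs, hχ11, hp1c] at hg
        have : (p : ℂ) = 0 := by linear_combination -hg
        exact hpc0 this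
      have h1 := hregζ' g hgreg
      rw [hg, hχ11, hp1c] at h1
      have h2 : (ζ' : G → ℂ) g = (ζ' : G → ℂ) 1 := by
        rw [h1, hζ'1, hp2c]
        ring
      apply mem_center_of_mem_charCenter ζ hfaith g
      rw [Helper74.mem_charCenter_iff]
      have hmg : ‖(((m g : ℂˣ) : ℂ))⁻¹‖ = 1 := by
        rw [norm_inv]
        have := Helper76.norm_monoidHom_eq_one ((Units.coeHom ℂ).comp m) g
        change ‖((m g : ℂˣ) : ℂ)‖ = 1 at this
        rw [this, inv_one]
      have h3 := congrArg norm h2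
      rw [hζ'app g, norm_mul, hmg, one_mul, hζ'1, ← hdeg] at h3
      rw [h3]
      simp
    · intro hg
      have hgreg := hZreg g hg
      have h1 := hregζ' g hgreg
      rw [hζ'Z g hg, hζ'1, hp2c] at h1
      rw [hχ11, hp1c]
      linear_combination -h1
  exact card_of_moments hp5 χ1 hχ1ne hxe hsing hint hS _ hker

/-- **Brauer.** If `|P| = p > 5`, `P` is not normal and `G` has a faithful irreducible character
of degree `p - 2`, then `p = 2^a + 1` and `G ≅ SL(2, 2^a) × Z(G)`. -/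
theorem sl2_of_faithful (hp5 : 5 < p) (hP : Nat.card P = p) (hnn : ¬ (P : Subgroup G).Normal)
    (ζ : IrrCharacter G) (hfaith : ∀ g : G, (ζ : G → ℂ) g = (ζ : G → ℂ) 1 → g = 1)
    (hdeg : charDegree (ζ : G → ℂ) = p - 2) :
    ∃ (a : ℕ) (F : Type) (_ : Field F) (_ : Fintype F), p = 2 ^ a + 1 ∧
      Fintype.card F = 2 ^ a ∧
      Nonempty (G ≃* Matrix.SpecialLinearGroup (Fin 2) F × Subgroup.center G) := by
  have hp : p.Prime := Fact.out
  haveI := normal_subgroupOf_nor P hP
  obtain ⟨M, hM⟩ := Helper74.exists_isPModular p hp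
  have hmod : ModCount p P :=
    Helper24.DefOneMZ2.module_count M hM P hP (nor_eq_normalizer P hP)
  have hZreg := center_regular P hP hnn
  obtain ⟨θ, X, Y, ε, hθ, hθ1, hinv, hf, D, hζY, hcent, hζθ⟩ :=
    part_one P hP hmod hp5 hnn ζ hfaith hdeg
  obtain ⟨μ, hμX, hμ1⟩ :=
    part_two P hP hmod hp5 ζ hfaith hdeg θ hθ hθ1 hinv hf D hζY hcent hZreg hζθ
  have hμR : μ ∈ Rset P θ := by rw [D.union]; exact Or.inl hμX
  obtain ⟨hsup, hinf, hcard⟩ :=
    part_three P hP hmod hp5 ζ hfaith hdeg θ hθ hθ1 hf hcent hZreg hζθ μ hμR hμ1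
  obtain ⟨a, F, hFf, hFt, hpa, hFc, ⟨e⟩⟩ := exists_sl2 P hp5 hP hnn hcent hZreg hsup hcard
  obtain ⟨e2⟩ := nonempty_mulEquiv_prod (commutator G) hsup hinf
  exact ⟨a, F, hFf, hFt, hpa, hFc, ⟨e2.trans (MulEquiv.prodCongr e (MulEquiv.refl _))⟩⟩

end Cfsg.Agent.Helper16.B66
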