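import Cfsg.Agent.Helper16.B66.PartOne

/-!
# S4705: Part II (the block of `θ` contains a linear character)
-/

set_option autoImplicit false

namespace Cfsg.Agent.Helper16.B66

open Cfsg Cfsg.Agent.Helper16 Cfsg.Agent.Helper16.DefOne Cfsg.Agent.Helper82.DefOne
  Cfsg.Agent.Helper77.DefOne Cfsg.Agent.Helper57.BH Cfsg.Agent.Helper57.BP
open scoped ComplexConjugate

universe u

variable {G : Type u} [Group G] [Fintype G] {p : ℕ} [Fact p.Prime] (P : Sylow p G)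

/-- the class constant sum over `overChar ψ` at `(t, t', u)`, `u ∈ P ∖ 1`, only sees the block of
`θ` -/
theorem tsum_overChar_eq_Rset_third (hP : Nat.card P = p)
    [((P : Subgroup G).subgroupOf (nor P)).Normal] (hmod : ModCount p P)
    (hcent : ∀ c : cen P, ¬ p ∣ orderOf c → (c : G) ∈ Subgroup.center G)
    (hZreg : ∀ z : G, z ∈ Subgroup.center G → ¬ p ∣ orderOf z)
    (θ : IrrCharacter (cen P)) (hθ : IsCanon P θ) (hθ1 : charDegree (θ : cen P → ℂ) = 1)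
    (ψ : IrrCharacter G)
    (hψθ : ∀ c : cen P, ¬ p ∣ orderOf c →
      (ψ : G → ℂ) (c : G) = (ψ : G → ℂ) 1 * (θ : cen P → ℂ) c)
    (t t' u : G) (hu : u ∈ (P : Subgroup G)) (hu1 : u ≠ 1) :
    tsum (overChar ψ) t t' u = tsum (Rset P θ) t t' u := by
  rw [tsum_eq_conj (overChar ψ) t t' u, tsum_eq_conj (Rset P θ) t t' u,
    tsum_overChar_eq_Rset P hP hmod hcent hZreg θ hθ hθ1 ψ hψθ u t⁻¹ hu hu1 t']

/-- the hypothesis of (U2) for the trivial character -/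
theorem oneIrrG_apply_regular (c : cen P) :
    ((oneIrrG G : IrrCharacter G) : G → ℂ) (c : G) =
      ((oneIrrG G : IrrCharacter G) : G → ℂ) 1 *
        ((oneIrr P : IrrCharacter (cen P)) : cen P → ℂ) c := by
  show (1 : ℂ) = 1 * 1
  ring

/-- from `p m = a` in `ℂ` to `ℝ` -/
theorem real_of_complex_eq {a b : ℝ} (h : (a : ℂ) = (b : ℂ)) : a = b := by
  exact_mod_cast h

open Classical in
/-- **Part II.** The block of `θ` contains a linear character. -/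
theorem part_two (hP : Nat.card P = p) [((P : Subgroup G).subgroupOf (nor P)).Normal]
    (hmod : ModCount p P) (hp5 : 5 < p)
    (ζ : IrrCharacter G) (hfaith : ∀ g : G, (ζ : G → ℂ) g = (ζ : G → ℂ) 1 → g = 1)
    (hdeg : charDegree (ζ : G → ℂ) = p - 2)
    (θ : IrrCharacter (cen P)) (hθ : IsCanon P θ) (hθ1 : charDegree (θ : cen P → ℂ) = 1)
    (hinv : ∀ n : nor P, n • θ = θ) (hf : (cen P).relIndex (nor P) = 2)
    {X Y : Set (IrrCharacter G)} {ε : IrrCharacter G → ℤ} (D : IsRData P θ X Y ε (-1))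
    (hζY : ζ ∈ Y)
    (hcent : ∀ c : cen P, ¬ p ∣ orderOf c → (c : G) ∈ Subgroup.center G)
    (hZreg : ∀ z : G, z ∈ Subgroup.center G → ¬ p ∣ orderOf z)
    (hζθ : ∀ c : cen P, ¬ p ∣ orderOf c →
      (ζ : G → ℂ) (c : G) = (ζ : G → ℂ) 1 * (θ : cen P → ℂ) c) :
    ∃ μ : IrrCharacter G, μ ∈ X ∧ charDegree (μ : G → ℂ) = 1 := by
  have hp : p.Prime := Fact.out
  have hp0 : (0 : ℝ) < (p : ℝ) := by exact_mod_cast hp.pos
  have hp7 : 7 ≤ p := by
    rcases Nat.lt_or_ge 6 p with h | h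
    · exact h
    · exfalso
      have h6 : p = 6 := by omega
      rw [h6] at hp
      norm_num at hp
  obtain ⟨χa, χb, hne, hX, hεa, hεb, ⟨k', hk'⟩, hdb, hregb, hregY⟩ :=
    theta_shape P hP hmod hp5 θ hθ hθ1 hinv hf D ζ hζY hdeg
  have hχaX : χa ∈ X := by rw [hX]; exact Set.mem_insert _ _
  have hχbX : χb ∈ X := by rw [hX]; exact Set.mem_insert_of_mem _ rfl
  refine ⟨χa, hχaX, ?_⟩
  rw [hk']
  suffices hk0 : k' = 0 by rw [hk0]; simp
  by_contra hk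
  have hk1 : 1 ≤ k' := Nat.one_le_iff_ne_zero.mpr hk
  -- the principal block
  obtain ⟨X0, Y0, ε0, δ0, D0⟩ := exists_isRData P hP hmod (oneIrr P) (isCanon_oneIrr P)
  obtain ⟨χ1, hχ1ne, hX0, hε01, hε1, hxmod, hregY0⟩ := principal_shape P hP hmod hp5 hf D0
  have hχ1X : χ1 ∈ X0 := by rw [hX0]; exact Set.mem_insert_of_mem _ rfl
  have h1X : oneIrrG G ∈ X0 := by rw [hX0]; exact Set.mem_insert _ _
  have hin : inertia P (oneIrr P) = 2 := by rw [inertia_oneIrr P hP, hf]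
  obtain ⟨ψ₀, hψ₀⟩ : Y0.Nonempty := by
    have hc := D0.cardY
    rw [hin] at hc
    have hpos : 0 < Nat.card Y0 := by
      rw [hc]
      exact Nat.div_pos (by omega) (by norm_num)
    haveI : Nonempty Y0 := (Nat.card_pos_iff.mp hpos).1
    obtain ⟨⟨ψ, hψ⟩⟩ := ‹Nonempty Y0›
    exact ⟨ψ, hψ⟩
  -- the element `t`
  obtain ⟨t, htN, htC, htreg, htt⟩ := exists_tau P hP (by omega) hf hcent
  have hinvP := conj_eq_inv P hP hf t htN htC
  have hcl : ∀ (χ : IrrCharacter G) (x : G), x ∈ (P : Subgroup G) →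
      (χ : G → ℂ) (x * t) = (χ : G → ℂ) t := by
    intro χ x hx
    obtain ⟨y, -, hy⟩ := exists_conj_eq_mul P hP (by omega) t hinvP x hx
    rw [← hy]
    exact Helper79.irr_isClassFunction χ t y
  have h1reg : ¬ p ∣ orderOf (1 : G) := by
    rw [orderOf_one]
    exact hp.not_dvd_one
  -- `ζ(t)` has absolute value one
  obtain ⟨mζ, hmζ, -, h1ζ⟩ := norm_apply_le_of_conj P hP (ζ : G → ℂ)
    (Helper79.irr_isCharacter ζ) t htN (hcl ζ)
  have hpSζ := pSum_Y_lin P hP hmod θ hθ hθ1 D ζ hζY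
  have hp2 : 2 ≤ p := hp.two_le
  have hmζ1 : mζ = 1 := by
    rw [hmζ, hdeg, hf] at hpSζ
    have h2 : ((p * mζ : ℕ) : ℂ) = ((p : ℕ) : ℂ) := by
      rw [hpSζ]
      push_cast [Nat.cast_sub hp2]
      ring
    have h3 : p * mζ = p := by exact_mod_cast h2
    exact Nat.eq_of_mul_eq_mul_left hp.pos (by rw [h3, mul_one])
  have hζt1 : ‖(ζ : G → ℂ) t‖ = 1 := h1ζ hmζ1
  have hζt : (ζ : G → ℂ) t ≠ 0 := by
    intro h0
    rw [h0, norm_zero] at hζt1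
    exact zero_ne_one hζt1
  -- the class constants
  obtain ⟨u, hu, hu1⟩ := exists_ne_one_of_card P hP
  have hZT : ∀ z : G, z ∈ Subgroup.center G → ∀ g : G, g * t * g⁻¹ = t * z → z = 1 :=
    fun z hz g h => eq_one_of_conj_mul_center ζ hfaith t hζt z hz g h
  have hF : ∀ z : G, z ∈ Subgroup.center G → ∀ a b : G,
      a * t * a⁻¹ * (b * t * b⁻¹) = z * u → z = t * t :=
    fun z hz a b h => center_eq_of_conj_mul_conj P hP (by omega) hf hcent hZreg t htN htC htt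
      hZT u hu hu1 z hz a b h
  have hnorm := norm_tsum_overChar_eq ζ t u (t * t) hF
  rw [tsum_overChar_eq_Rset_third P hP hmod hcent hZreg θ hθ hθ1 ζ hζθ t t u hu hu1,
    ← overChar_oneIrrG,
    tsum_overChar_eq_Rset_third P hP hmod hcent hZreg (oneIrr P) (isCanon_oneIrr P)
      (charDegree_oneIrr P) (oneIrrG G) (fun c _ => oneIrrG_apply_regular P c) t t u hu hu1]
    at hnorm
  -- evaluation in the block of `θ`
  have e1 := tsum_Rset_regular P hP hmod θ hθ hθ1 hinv D t t htreg htreg u hu hu1 ζ hζY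
  rw [hX, finsum_mem_pair hne, hεa, hεb, hregb t htreg, Helper79.irr_one χa, Helper79.irr_one χb,
    Helper79.irr_one ζ, hdb, hk', hdeg] at e1
  -- evaluation in the principal block
  have e2 := tsum_Rset_regular P hP hmod (oneIrr P) (isCanon_oneIrr P) (charDegree_oneIrr P)
    (smul_oneIrr P) D0 t t htreg htreg u hu hu1 ψ₀ hψ₀
  have hone : ∀ g : G, ((oneIrrG G : IrrCharacter G) : G → ℂ) g = 1 := fun _ => rfl
  have hψ₀1 : (ψ₀ : G → ℂ) 1 = (charDegree (χ1 : G → ℂ) : ℂ) + (δ0 : ℂ) := by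
    rw [hregY0 ψ₀ hψ₀ 1 h1reg, Helper79.irr_one χ1]
  rw [hX0, finsum_mem_pair hχ1ne.symm, hε01, hε1, hone, hone, hregY0 ψ₀ hψ₀ t htreg, hψ₀1,
    Helper79.irr_one χ1] at e2
  -- the bounds
  set x := charDegree (χ1 : G → ℂ) with hx
  set c := (χ1 : G → ℂ) t with hc
  set A := (χa : G → ℂ) t with hA
  set Z := (ζ : G → ℂ) t with hZ
  have hx1 : 1 ≤ x := Helper79.irr_charDegree_pos χ1
  -- `χa`
  obtain ⟨ma, hma, hlea, -⟩ := norm_apply_le_of_conj P hP (χa : G → ℂ)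
    (Helper79.irr_isCharacter χa) t htN (hcl χa)
  have hpSa := pSum_X_lin P hP θ hθ hθ1 hinv D χa hχaX
  have hma1 : ma = k' + 1 := by
    rw [hma, hk', hεa] at hpSa
    have h2 : ((p * ma : ℕ) : ℂ) = ((p * (k' + 1) : ℕ) : ℂ) := by
      rw [hpSa]
      push_cast
      ring
    have h3 : p * ma = p * (k' + 1) := by exact_mod_cast h2
    exact Nat.eq_of_mul_eq_mul_left hp.pos h3
  have hAle : ‖A‖ ≤ (k' : ℝ) + 1 := by
    have := hlea
    rw [hma1] at this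
    push_cast at this
    exact this
  have hZle : ‖Z‖ ≤ 1 := le_of_eq hζt1
  -- `χ1`
  obtain ⟨m1, hm1, hle1, -⟩ := norm_apply_le_of_conj P hP (χ1 : G → ℂ)
    (Helper79.irr_isCharacter χ1) t htN (hcl χ1)
  have hpS1 := pSum_X0 P hP D0 χ1 hχ1X
  have hc1 : (p : ℝ) * ‖c‖ ≤ (x : ℝ) + ((p : ℝ) - 1) * (δ0 : ℝ) := by
    rw [hm1, hε1] at hpS1
    have h2 : (((p : ℝ) * (m1 : ℝ) : ℝ) : ℂ) =
        (((x : ℝ) + ((p : ℝ) - 1) * (δ0 : ℝ) : ℝ) : ℂ) := by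
      push_cast
      push_cast at hpS1
      exact hpS1
    have h3 := real_of_complex_eq h2
    rw [← h3]
    exact mul_le_mul_of_nonneg_left hle1 hp0.le
  -- `ψ₀`
  obtain ⟨m2, hm2, hle2, -⟩ := norm_apply_le_of_conj P hP (ψ₀ : G → ℂ)
    (Helper79.irr_isCharacter ψ₀) t htN (hcl ψ₀)
  have hpS2 := pSum_Y0 P hP hmod D0 ψ₀ hψ₀
  have hc2 : (p : ℝ) * ‖c + (δ0 : ℂ)‖ ≤ (x : ℝ) - (δ0 : ℝ) := by
    have hd2 : (charDegree (ψ₀ : G → ℂ) : ℂ) = (x : ℂ) + (δ0 : ℂ) := by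
      rw [← Helper79.irr_one ψ₀, hψ₀1]
    rw [hm2, hd2, hf] at hpS2
    have h2 : (((p : ℝ) * (m2 : ℝ) : ℝ) : ℂ) = (((x : ℝ) - (δ0 : ℝ) : ℝ) : ℂ) := by
      push_cast
      push_cast at hpS2
      rw [hpS2]
      ring
    have h3 := real_of_complex_eq h2
    rw [← h3, ← hregY0 ψ₀ hψ₀ t htreg]
    exact mul_le_mul_of_nonneg_left hle2 hp0.le
  have hlow := principal_lower p x hp7 δ0 D0.del hx1 hxmod c hc1 hc2
  have hupp := theta_upper p k' hp7 hk1 A Z hAle hZle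
  rw [e1, e2] at hnorm
  have e3 : ((1 : ℤ) : ℂ) * (A * A / ((1 + k' * p : ℕ) : ℂ)) +
      ((-1 : ℤ) : ℂ) * ((A + Z) * (A + Z) / ((1 + k' * p + (p - 2) : ℕ) : ℂ)) -
      ((-1 : ℤ) : ℂ) * (Z * Z / ((p - 2 : ℕ) : ℂ)) =
      A * A / ((1 + k' * p : ℕ) : ℂ) -
        (A + Z) * (A + Z) / ((1 + k' * p + (p - 2) : ℕ) : ℂ) + Z * Z / ((p - 2 : ℕ) : ℂ) := by
    push_cast
    ring
  have e4 : ((1 : ℤ) : ℂ) * (1 * 1 / 1) + (δ0 : ℂ) * (c * c / (x : ℂ)) -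
      (δ0 : ℂ) * ((c + (δ0 : ℂ)) * (c + (δ0 : ℂ)) / ((x : ℂ) + (δ0 : ℂ))) =
      1 + (δ0 : ℂ) * (c * c / (x : ℂ)) -
        (δ0 : ℂ) * ((c + (δ0 : ℂ)) * (c + (δ0 : ℂ)) / ((x : ℂ) + (δ0 : ℂ))) := by
    push_cast
    ring
  rw [e3, e4] at hnorm
  rw [hnorm] at hupp
  exact absurd hlow (not_lt.mpr hupp)

end Cfsg.Agent.Helper16.B66
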