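import Cfsg.Agent.Helper57.BP.PartI
import Cfsg.Agent.S4701
import Cfsg.Agent.Helper1.B66P12a
import Cfsg.Agent.Helper15.B66P06
import Cfsg.Agent.Helper15.B66P07
import Cfsg.Agent.Helper16.B66.Arith
import Cfsg.Agent.Helper16.B66.P04
import Cfsg.Agent.Helper17.B66P02
import Cfsg.Agent.Helper20.B66P12
import Cfsg.Agent.Helper20.B66P27
import Cfsg.Agent.Helper31.B66P23
import Cfsg.Agent.Helper31.B66P24
import Cfsg.Agent.Helper42.B66P10v
import Cfsg.Agent.Helper42.B66P11
import Cfsg.Agent.Helper67.B66P08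
import Cfsg.Agent.Helper67.B66P26
import Cfsg.Agent.Helper67.B66P28
import Cfsg.Agent.Helper67.B66P30
import Cfsg.Agent.Helper70.B66P03
import Cfsg.Agent.Helper70.B66P16
import Cfsg.Agent.Helper72.B66P17
import Cfsg.Agent.Helper72.B66P18
import Cfsg.Agent.Helper74.B66P14
import Cfsg.Agent.Helper74.B66P29
import Cfsg.Agent.Helper75.B66P19
import Cfsg.Agent.Helper75.B66P20
import Cfsg.Agent.Helper79.B66P13
import Cfsg.Agent.Helper79.B66P25
import Cfsg.Agent.Helper81.B66P09
import Cfsg.Agent.Helper81.B66P15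
import Cfsg.Agent.Helper82.B66P01
import Cfsg.Agent.Helper82.B66P22

/-!
# S4705 (Brauer 1966: faithful irreducible character of degree `p - 2`): skeleton of the pieces
-/

set_option autoImplicit false

namespace Cfsg.Agent.Helper16.B66

open Cfsg Cfsg.Agent.Helper16 Cfsg.Agent.Helper16.DefOne Cfsg.Agent.Helper82.DefOne
  Cfsg.Agent.Helper77.DefOne Cfsg.Agent.Helper57.BH Cfsg.Agent.Helper57.BP
open scoped ComplexConjugate

universe u

variable {G : Type u} [Group G] [Fintype G] {p : ℕ} [Fact p.Prime] (P : Sylow p G)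


export Cfsg.Agent.Helper82.B66 (not_mem_X_of_lt)

export Cfsg.Agent.Helper17.B66 (delta_eq_neg_one)

export Cfsg.Agent.Helper70.B66 (setup_arith)

export Cfsg.Agent.Helper16.B66aux (regular_of_mult)

export Cfsg.Agent.Helper15.B66 (exists_tau)

export Cfsg.Agent.Helper15.B66 (conj_eq_inv)

export Cfsg.Agent.Helper67.B66 (exists_conj_eq_mul)

export Cfsg.Agent.Helper81.B66 (exists_fixed_part)

export Cfsg.Agent.Helper42.B66 (norm_apply_le_of_conj)

export Cfsg.Agent.Helper42.B66 (eq_one_of_conj_mul_center)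

export Cfsg.Agent.Helper1.B66 (exists_mul_of_mem_cen)

export Cfsg.Agent.Helper20.B66 (center_eq_of_conj_mul_conj)

export Cfsg.Agent.Helper79.B66 (norm_tsum_overChar_eq)

export Cfsg.Agent.Helper74.B66 (tsum_eq_conj)

export Cfsg.Agent.Helper81.B66 (finsum_Y_singular)

export Cfsg.Agent.Helper70.B66 (tsum_Rset_regular)

export Cfsg.Agent.Helper72.B66 (pSum_X_lin)

export Cfsg.Agent.Helper72.B66 (pSum_Y_lin)

export Cfsg.Agent.Helper75.B66 (theta_shape)

export Cfsg.Agent.Helper75.B66 (principal_shape)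

export Cfsg.Agent.Helper16.B66aux (principal_lower)

export Cfsg.Agent.Helper16.B66aux (theta_upper)

export Cfsg.Agent.Helper82.B66 (mem_Rset_of_overChar)

export Cfsg.Agent.Helper31.B66 (finsum_Y0_sq)

export Cfsg.Agent.Helper31.B66 (tsum_Rset_one_uuw)

export Cfsg.Agent.Helper79.B66 (exists_rat_tsum_overOne)

export Cfsg.Agent.Helper67.B66 (exists_nat_of_rat)

export Cfsg.Agent.Helper20.B66 (card_of_moments)

export Cfsg.Agent.Helper67.B66 (commutator_sup_center)

export Cfsg.Agent.Helper74.B66 (exists_sl2)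

export Cfsg.Agent.Helper67.B66 (nonempty_mulEquiv_prod)


end Cfsg.Agent.Helper16.B66
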